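import Mathlib

/-!
# Divisibility by powers of `p` in Witt vectors over a `p`-adically complete ring without `p`-torsion
-/

set_option autoImplicit false
set_option linter.style.haveILetI false
universe u

namespace Groth.Agent.WittDvd

variable {p : ℕ} [hp : Fact p.Prime] {R : Type u} [CommRing R]

/-- Congruence of the first `m` components modulo an ideal. -/
theorem coeff_sub_mem_iff (I : Ideal R) (x y : WittVector p R) (m : ℕ) :
    (∀ i < m, (x - y).coeff i ∈ I) ↔ ∀ i < m, x.coeff i - y.coeff i ∈ I := by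
  let φ := (WittVector.truncate (p := p) (R := R ⧸ I) m).comp (WittVector.map (Ideal.Quotient.mk I))
  have h : ∀ z w : WittVector p R, φ z = φ w ↔ ∀ i < m, z.coeff i - w.coeff i ∈ I := fun z w => by
    rw [TruncatedWittVector.ext_iff]
    simp only [φ, RingHom.comp_apply, WittVector.coeff_truncate, WittVector.map_coeff, Ideal.Quotient.eq]
    exact ⟨fun h i hi => h ⟨i, hi⟩, fun h i => h i i.2⟩
  rw [← h x y, ← sub_eq_zero (a := φ x), ← map_sub, ← map_zero φ, h]
  simp

theorem sub_mem_trans {I : Ideal R} {x y z : WittVector p R} {m : ℕ} (h₁ : ∀ i < m, (x - y).coeff i ∈ I)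
    (h₂ : ∀ i < m, (y - z).coeff i ∈ I) : ∀ i < m, (x - z).coeff i ∈ I := by
  rw [coeff_sub_mem_iff] at h₁ h₂ ⊢
  intro i hi
  simpa using add_mem (h₁ i hi) (h₂ i hi)

theorem sub_mem_symm {I : Ideal R} {x y : WittVector p R} {m : ℕ} (h₁ : ∀ i < m, (x - y).coeff i ∈ I) :
    ∀ i < m, (y - x).coeff i ∈ I := by
  rw [coeff_sub_mem_iff] at h₁ ⊢
  intro i hi
  simpa using I.neg_mem (h₁ i hi)

theorem mul_sub_mem {I : Ideal R} (c : WittVector p R) {x y : WittVector p R} {m : ℕ}
    (h : ∀ i < m, (x - y).coeff i ∈ I) : ∀ i < m, (c * x - c * y).coeff i ∈ I := by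
  let φ := (WittVector.truncate (p := p) (R := R ⧸ I) m).comp (WittVector.map (Ideal.Quotient.mk I))
  have h0 : φ (x - y) = 0 := TruncatedWittVector.ext fun i => by
    simp only [φ, RingHom.comp_apply, WittVector.coeff_truncate, WittVector.map_coeff,
      TruncatedWittVector.coeff_zero]
    exact Ideal.Quotient.eq_zero_iff_mem.2 (h i i.2)
  intro i hi
  have := congrArg (fun t => TruncatedWittVector.coeff ⟨i, hi⟩ t)
    (show φ (c * x - c * y) = 0 by rw [← mul_sub, map_mul, h0, mul_zero])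
  simp only [φ, RingHom.comp_apply, WittVector.coeff_truncate, WittVector.map_coeff,
    TruncatedWittVector.coeff_zero] at this
  exact Ideal.Quotient.eq_zero_iff_mem.1 this

theorem dvd_of_mul (hR : ∀ y : R, (p : R) * y = 0 → y = 0) :
    ∀ (u : ℕ) {y : R}, (p : R) ^ u * y = 0 → y = 0
  | 0, y, h => by simpa using h
  | u + 1, y, h => dvd_of_mul hR u (hR _ (by rwa [← mul_assoc, ← pow_succ']))

/-- If the first components of `p ^ u * d` are divisible by a high power of `p`, so are those of `d`. -/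
theorem coeff_mem_of_pow_mul (hR : ∀ y : R, (p : R) * y = 0 → y = 0) (d : WittVector p R) (m u l : ℕ)
    (h : ∀ i < m, ((p : WittVector p R) ^ u * d).coeff i ∈ Ideal.span {(p : R) ^ (l + u + m * m)}) :
    ∀ i < m, d.coeff i ∈ Ideal.span {(p : R) ^ l} := by
  have hgh : ∀ (x : WittVector p R) (n : ℕ), WittVector.ghostComponent n x =
      ∑ i ∈ Finset.range (n + 1), (p : R) ^ i * x.coeff i ^ p ^ (n - i) := fun x n => by
    simp [WittVector.ghostComponent_apply, wittPolynomial_eq_sum_C_mul_X_pow]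
  have hdiv : ∀ (a b : ℕ) (y : R), (p : R) ^ (a + b) ∣ (p : R) ^ a * y → (p : R) ^ b ∣ y := by
    rintro a b y ⟨c, hc⟩
    exact ⟨c, sub_eq_zero.1 (dvd_of_mul hR a (by rw [mul_sub, hc, pow_add, mul_assoc, sub_self]))⟩
  have hg : ∀ n < m, (p : R) ^ (l + m * m) ∣ WittVector.ghostComponent n d := by
    intro n hn
    refine hdiv u _ _ ?_
    rw [show (p : R) ^ u * WittVector.ghostComponent n d =
      WittVector.ghostComponent n ((p : WittVector p R) ^ u * d) by simp, hgh]
    refine Finset.dvd_sum fun i hi => Dvd.dvd.mul_left ?_ _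
    have := Ideal.mem_span_singleton.1 (h i (lt_of_le_of_lt (Nat.lt_succ_iff.1 (Finset.mem_range.1 hi)) hn))
    rw [show u + (l + m * m) = l + u + m * m by ring]
    exact dvd_pow this (pow_pos hp.out.pos _).ne'
  have key : ∀ n < m, (p : R) ^ (l + m * (m - n - 1)) ∣ d.coeff n := by
    intro n
    induction n using Nat.strong_induction_on with
    | _ n ih =>
      intro hn
      have h1 := hgh d n
      rw [Finset.sum_range_succ, Nat.sub_self, pow_zero, pow_one] at h1
      refine hdiv n _ _ ?_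
      rw [eq_sub_of_add_eq' h1.symm]
      refine dvd_sub ?_ (Finset.dvd_sum fun i hi => ?_)
      · refine (pow_dvd_pow _ ?_).trans (hg n hn)
        obtain ⟨c, rfl⟩ : ∃ c, m = n + 1 + c := ⟨m - n - 1, by omega⟩
        rw [show n + 1 + c - n - 1 = c by omega]
        nlinarith
      · have hi' := Finset.mem_range.1 hi
        refine Dvd.dvd.mul_left ((pow_dvd_pow _ ?_).trans (dvd_pow (ih i hi' (hi'.trans hn)) (pow_pos hp.out.pos _).ne')) _
        obtain ⟨c, rfl⟩ : ∃ c, m = n + 1 + c := ⟨m - n - 1, by omega⟩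
        obtain ⟨e, he⟩ : ∃ e, n = i + 1 + e := ⟨n - i - 1, by omega⟩
        rw [show n + 1 + c - n - 1 = c by omega, show n + 1 + c - i - 1 = c + 1 + e by omega]
        nlinarith
  exact fun i hi => Ideal.mem_span_singleton.2 ((pow_dvd_pow _ (Nat.le_add_right _ _)).trans (key i hi))

theorem eq_zero_of_forall_mem [IsAdicComplete (Ideal.span {(p : R)}) R] {y : R}
    (h : ∀ n, y ∈ Ideal.span {(p : R) ^ n}) : y = 0 :=
  IsHausdorff.haus' (I := Ideal.span {(p : R)}) y fun n => by
    rw [SModEq.zero, smul_eq_mul, Ideal.mul_top, Ideal.span_singleton_pow]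
    exact h n

theorem exists_eq (hR : ∀ y : R, (p : R) * y = 0 → y = 0) [IsAdicComplete (Ideal.span {(p : R)}) R]
    (a : WittVector p R) (m u : ℕ)
    (h : ∀ s : ℕ, ∃ z : WittVector p R, ∀ i < m, ((p : WittVector p R) ^ u * z - a).coeff i ∈ Ideal.span {(p : R) ^ s}) :
    ∃ x : WittVector p R, ∀ i < m, ((p : WittVector p R) ^ u * x - a).coeff i = 0 := by
  choose z hz using fun l => h (l + u + m * m)
  have hle : ∀ {a b : ℕ}, a ≤ b → Ideal.span {(p : R) ^ b} ≤ Ideal.span {(p : R) ^ a} := fun hab =>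
    Ideal.span_singleton_le_span_singleton.2 (pow_dvd_pow _ hab)
  have hcauchy : ∀ {l l'}, l ≤ l' → ∀ i < m, (z l).coeff i - (z l').coeff i ∈ Ideal.span {(p : R) ^ l} := by
    intro l l' hll
    rw [← coeff_sub_mem_iff]
    refine coeff_mem_of_pow_mul hR _ m u l ?_
    rw [mul_sub]
    exact sub_mem_trans (hz l) (sub_mem_symm fun i hi => hle (by omega) (hz l' i hi))
  have hlim : ∀ i : Fin m, ∃ L, ∀ l, (z l).coeff i - L ∈ Ideal.span {(p : R) ^ l} := fun i => by
    obtain ⟨L, hL⟩ := IsPrecomplete.prec' (I := Ideal.span {(p : R)}) (fun l => (z l).coeff i)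
      (fun {a b} hab => by
        rw [SModEq.sub_mem, smul_eq_mul, Ideal.mul_top, Ideal.span_singleton_pow]
        exact hcauchy hab i i.2)
    refine ⟨L, fun l => ?_⟩
    have := hL l
    rwa [SModEq.sub_mem, smul_eq_mul, Ideal.mul_top, Ideal.span_singleton_pow] at this
  choose L hL using hlim
  refine ⟨WittVector.mk p fun i => if hi : i < m then L ⟨i, hi⟩ else 0, fun i hi => eq_zero_of_forall_mem (p := p) fun l => ?_⟩
  refine sub_mem_trans (mul_sub_mem _ ?_) (fun i hi => hle (by omega) (hz l i hi)) i hi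
  refine sub_mem_symm ?_
  rw [coeff_sub_mem_iff]
  intro j hj
  simpa [WittVector.coeff_mk, dif_pos hj] using hL ⟨j, hj⟩ l

theorem eq_of_pow_mul (hR : ∀ y : R, (p : R) * y = 0 → y = 0) [IsAdicComplete (Ideal.span {(p : R)}) R]
    (m u : ℕ) {x y : WittVector p R}
    (h : ∀ i < m, ((p : WittVector p R) ^ u * x - (p : WittVector p R) ^ u * y).coeff i = 0) :
    ∀ i < m, x.coeff i = y.coeff i := fun i hi => sub_eq_zero.1 (eq_zero_of_forall_mem (p := p) fun l => by
  refine (coeff_sub_mem_iff _ x y m).1 (coeff_mem_of_pow_mul hR (x - y) m u l fun j hj => ?_) i hi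
  rw [mul_sub, h j hj]
  exact zero_mem _)

theorem pow_mul_mem_span (hR : ∀ y : R, (p : R) * y = 0 → y = 0) [IsAdicComplete (Ideal.span {(p : R)}) R]
    (u : ℕ) {a : WittVector p R}
    (h : ∀ r s : ℕ, ∃ z : WittVector p R, ∀ i < r, ((p : WittVector p R) ^ u * z - a).coeff i ∈ Ideal.span {(p : R) ^ s}) :
    a ∈ Ideal.span {(p : WittVector p R) ^ u} := by
  choose x hx using fun m => exists_eq hR a m u (h m)
  let X : WittVector p R := WittVector.mk p fun i => (x (i + 1)).coeff i
  have hX : ∀ m, ∀ i < m, (x m).coeff i = X.coeff i := fun m i hi => by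
    rw [WittVector.coeff_mk]
    refine eq_of_pow_mul hR (i + 1) u (fun j hj => ?_) i (Nat.lt_succ_self i)
    rw [← Ideal.mem_bot]
    exact sub_mem_trans (y := a) (fun j hj => Ideal.mem_bot.2 (hx m j (by omega)))
      (sub_mem_symm fun j hj => Ideal.mem_bot.2 (hx (i + 1) j hj)) j hj
  refine Ideal.mem_span_singleton'.2 ⟨X, ?_⟩
  rw [mul_comm]
  refine sub_eq_zero.1 (WittVector.ext fun i => ?_)
  rw [WittVector.zero_coeff, ← Ideal.mem_bot]
  refine sub_mem_trans (mul_sub_mem _ ?_) (fun j hj => Ideal.mem_bot.2 (hx (i + 1) j hj)) i (Nat.lt_succ_self i)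
  rw [coeff_sub_mem_iff]
  intro j hj
  simp [hX _ j hj]

end Groth.Agent.WittDvd
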